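import Mathlib

/-!
Non-degenerate alternating pairings with values in the field with two elements on a finite group
of exponent two: orthogonal subgroups, transvections, and the number of zeros of a quadratic map.
-/

set_option autoImplicit false

namespace CfsgLib.SpTwoIndex

variable {V : Type*} [AddCommGroup V]

/-- A non-degenerate alternating pairing with values in `ZMod 2`. -/
structure Alt (V : Type*) [AddCommGroup V] where
  B : V →+ V →+ ZMod 2
  two : ∀ v : V, v + v = 0
  self : ∀ v : V, B v v = 0
  nondeg : ∀ v : V, (∀ w, B v w = 0) → v = 0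

theorem zmod_two_cases (a : ZMod 2) : a = 0 ∨ a = 1 := by revert a; decide

theorem zmod_two_self (a : ZMod 2) : a + a = 0 := by revert a; decide

theorem ne_one_iff (a : ZMod 2) : a ≠ 1 ↔ a = 0 := by revert a; decide

theorem ne_zero_iff (a : ZMod 2) : a ≠ 0 ↔ a = 1 := by revert a; decide

namespace Alt

variable (A : Alt V)

theorem neg_eq (A : Alt V) (v : V) : -v = v := neg_eq_of_add_eq_zero_left (A.two v)

theorem add_cancel (A : Alt V) (u v : V) : u + (u + v) = v := by rw [← add_assoc, A.two, zero_add]

theorem eq_of_add_eq_zero (A : Alt V) {u v : V} (h : u + v = 0) : u = v := by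
  rw [eq_neg_of_add_eq_zero_left h, A.neg_eq]

theorem add_ne_zero (A : Alt V) {u v : V} (h : u ≠ v) : u + v ≠ 0 := fun k => h (A.eq_of_add_eq_zero k)

theorem symm (u v : V) : A.B u v = A.B v u := by
  have h := A.self (u + v)
  rw [map_add, map_add, AddMonoidHom.add_apply, AddMonoidHom.add_apply, A.self, A.self, zero_add,
    add_zero, add_comm] at h
  revert h
  generalize A.B u v = a
  generalize A.B v u = b
  revert a b
  decide

theorem nondeg' (v : V) (h : ∀ w, A.B w v = 0) : v = 0 :=
  A.nondeg v fun w => by rw [A.symm]; exact h w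

/-- The orthogonal of a set. -/
def perp (S : Set V) : AddSubgroup V where
  carrier := {x | ∀ s ∈ S, A.B x s = 0}
  add_mem' := fun {a b} ha hb s hs => by rw [map_add, AddMonoidHom.add_apply, ha s hs, hb s hs, add_zero]
  zero_mem' := fun s _ => by rw [map_zero, AddMonoidHom.zero_apply]
  neg_mem' := fun {a} ha s hs => by rw [A.neg_eq]; exact ha s hs

theorem mem_perp {S : Set V} {x : V} : x ∈ A.perp S ↔ ∀ s ∈ S, A.B x s = 0 := Iff.rfl

/-- The sign of an element of `ZMod 2`. -/
def sgn (a : ZMod 2) : ℤ := if a = 0 then 1 else -1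

theorem sgn_add (a b : ZMod 2) : sgn (a + b) = sgn a * sgn b := by revert a b; decide

theorem sum_sgn {W : Type*} [AddCommGroup W] [Fintype W] (f : W →+ ZMod 2) :
    (∑ w, sgn (f w)) = if f = 0 then (Fintype.card W : ℤ) else 0 := by
  split_ifs with h
  · subst h
    simp [sgn]
  · obtain ⟨w₀, hw₀⟩ : ∃ w₀, f w₀ ≠ 0 := by
      by_contra hc
      push Not at hc
      exact h (AddMonoidHom.ext fun w => hc w)
    have hs : (∑ w, sgn (f w)) = ∑ w, sgn (f (w + w₀)) :=
      (Fintype.sum_equiv (Equiv.addRight w₀) _ _ (fun w => rfl)).symm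
    have h1 : ∀ w, sgn (f (w + w₀)) = - sgn (f w) := fun w => by
      rw [map_add, sgn_add, (ne_zero_iff _).1 hw₀]
      simp [sgn]
    rw [Finset.sum_congr rfl (fun w _ => h1 w), Finset.sum_neg_distrib] at hs
    omega

theorem card_perp [Finite V] (U : AddSubgroup V) :
    Nat.card (A.perp (U : Set V)) * Nat.card U = Nat.card V := by
  classical
  haveI := Fintype.ofFinite V
  haveI := Fintype.ofFinite U
  have h1 : (∑ x : V, ∑ u : U, sgn (A.B x u)) =
      (Nat.card (A.perp (U : Set V)) : ℤ) * Nat.card U := by
    have h : ∀ x : V, (∑ u : U, sgn (A.B x u)) =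
        if x ∈ A.perp (U : Set V) then (Fintype.card U : ℤ) else 0 := by
      intro x
      have hx := sum_sgn ((A.B x).comp U.subtype)
      simp only [AddMonoidHom.coe_comp, AddSubgroup.coe_subtype, Function.comp_apply] at hx
      rw [hx]
      have : (A.B x).comp U.subtype = 0 ↔ x ∈ A.perp (U : Set V) :=
        ⟨fun k u hu => DFunLike.congr_fun k ⟨u, hu⟩, fun k => AddMonoidHom.ext fun u => k u u.2⟩
      by_cases hm : x ∈ A.perp (U : Set V)
      · rw [if_pos (this.2 hm), if_pos hm]
      · rw [if_neg (mt this.1 hm), if_neg hm]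
    rw [Finset.sum_congr rfl (fun x _ => h x), Finset.sum_ite, Finset.sum_const_zero, add_zero,
      Finset.sum_const, nsmul_eq_mul, Nat.card_eq_fintype_card, Nat.card_eq_fintype_card,
      Fintype.card_subtype]
    congr 2
    exact (Fintype.card_subtype _).symm.trans (Fintype.card_congr (Equiv.refl _))
  have h2 : (∑ x : V, ∑ u : U, sgn (A.B x u)) = (Nat.card V : ℤ) := by
    rw [Finset.sum_comm]
    have h : ∀ u : U, (∑ x : V, sgn (A.B x u)) = if (u : V) = 0 then (Fintype.card V : ℤ) else 0 := by
      intro u
      have hu := sum_sgn (A.B.flip (u : V))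
      simp only [AddMonoidHom.flip_apply] at hu
      rw [hu]
      by_cases hm : (u : V) = 0
      · rw [if_pos hm, if_pos (by rw [hm, map_zero])]
      · rw [if_neg hm, if_neg fun k => hm (A.nondeg' _ fun w => DFunLike.congr_fun k w)]
    rw [Finset.sum_congr rfl (fun u _ => h u), Nat.card_eq_fintype_card,
      Finset.sum_eq_single (0 : U)]
    · simp
    · intro u _ hu
      exact if_neg fun k => hu (Subtype.ext k)
    · simp
  have := h1.symm.trans h2
  exact_mod_cast this

theorem perp_perp [Finite V] (U : AddSubgroup V) :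
    A.perp (A.perp (U : Set V) : Set V) = U := by
  have h1 := A.card_perp U
  have h2 := A.card_perp (A.perp (U : Set V))
  have hle : U ≤ A.perp (A.perp (U : Set V) : Set V) := fun u hu y hy => by
    rw [A.symm]; exact hy u hu
  refine (AddSubgroup.eq_of_le_of_card_ge hle ?_).symm
  have h0 : 0 < Nat.card (A.perp (U : Set V)) := Nat.card_pos
  rw [← h2, mul_comm (Nat.card (A.perp (U : Set V))), Nat.mul_left_inj h0.ne'] at h1
  exact h1.ge

/-- The transvection of `u`. -/
def tau (u x : V) : V := if A.B x u = 1 then x + u else x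

theorem tau_of_one {u x : V} (h : A.B x u = 1) : A.tau u x = x + u := if_pos h

theorem tau_of_zero {u x : V} (h : A.B x u = 0) : A.tau u x = x := by
  rw [tau, if_neg (by rw [h]; decide)]

theorem tau_B (u x y : V) : A.B (A.tau u x) (A.tau u y) = A.B x y := by
  rcases zmod_two_cases (A.B x u) with h | h <;> rcases zmod_two_cases (A.B y u) with k | k
  · rw [A.tau_of_zero h, A.tau_of_zero k]
  · rw [A.tau_of_zero h, A.tau_of_one k, map_add, h, add_zero]
  · rw [A.tau_of_one h, A.tau_of_zero k, map_add, AddMonoidHom.add_apply, A.symm u y, k, add_zero]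
  · rw [A.tau_of_one h, A.tau_of_one k]
    simp only [map_add, AddMonoidHom.add_apply, A.self, A.symm u y, k, h, add_zero]
    rw [add_assoc, zmod_two_self, add_zero]

theorem tau_tau (u x : V) : A.tau u (A.tau u x) = x := by
  rcases zmod_two_cases (A.B x u) with h | h
  · rw [A.tau_of_zero h, A.tau_of_zero h]
  · rw [A.tau_of_one h, A.tau_of_one (by rw [map_add, AddMonoidHom.add_apply, h, A.self, add_zero]),
      add_assoc, A.two, add_zero]

theorem tau_add (u x y : V) : A.tau u (x + y) = A.tau u x + A.tau u y := by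
  rcases zmod_two_cases (A.B x u) with h | h <;> rcases zmod_two_cases (A.B y u) with k | k
  · rw [A.tau_of_zero h, A.tau_of_zero k, A.tau_of_zero (by rw [map_add, AddMonoidHom.add_apply, h, k, add_zero])]
  · rw [A.tau_of_zero h, A.tau_of_one k, A.tau_of_one (by rw [map_add, AddMonoidHom.add_apply, h, k, zero_add]),
      add_assoc]
  · rw [A.tau_of_one h, A.tau_of_zero k, A.tau_of_one (by rw [map_add, AddMonoidHom.add_apply, h, k, add_zero])]
    abel
  · rw [A.tau_of_one h, A.tau_of_one k,
      A.tau_of_zero (by rw [map_add, AddMonoidHom.add_apply, h, k]; decide),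
      add_add_add_comm, A.two u, add_zero]

theorem exists_one {v : V} (h : v ≠ 0) : ∃ w, A.B v w = 1 := by
  by_contra hc
  push Not at hc
  exact h (A.nondeg v fun w => (ne_one_iff _).1 (hc w))

/-- A set of non-zero vectors closed under transvections contains all non-zero vectors. -/
theorem tau_transitive {S : Set V} (hcl : ∀ u, ∀ x ∈ S, A.tau u x ∈ S) {x : V} (hx : x ∈ S)
    (hx0 : x ≠ 0) {y : V} (hy : y ≠ 0) : y ∈ S := by
  have step : ∀ x y : V, x ∈ S → A.B x y = 1 → y ∈ S := fun x y hx h => by
    have := hcl (x + y) x hx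
    rwa [A.tau_of_one (by rw [map_add, A.self, zero_add, h]), A.add_cancel] at this
  rcases zmod_two_cases (A.B x y) with h | h
  swap
  · exact step x y hx h
  obtain ⟨a, ha⟩ := A.exists_one hx0
  obtain ⟨b, hb⟩ := A.exists_one hy
  obtain ⟨w, hw1, hw2⟩ : ∃ w, A.B x w = 1 ∧ A.B y w = 1 := by
    rcases zmod_two_cases (A.B y a) with k | k
    swap
    · exact ⟨a, ha, k⟩
    rcases zmod_two_cases (A.B x b) with l | l
    swap
    · exact ⟨b, l, hb⟩
    exact ⟨a + b, by rw [map_add, ha, l, add_zero], by rw [map_add, k, hb, zero_add]⟩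
  exact step w y (step x w hx hw1) (by rw [A.symm, hw2])

/-- A set of quadratic maps with the given polar form has at least this many zeros. -/
theorem card_zeros [Finite V] {d : ℕ} (hV : Nat.card V = 4 ^ d) (Q : V → ZMod 2)
    (hQ : ∀ x y, Q (x + y) = Q x + Q y + A.B x y) :
    4 ^ d ≤ 2 * Nat.card {x // Q x = 0} + 2 ^ d := by
  classical
  haveI := Fintype.ofFinite V
  set S : ℤ := ∑ x, sgn (Q x) with hS
  have hQ0 : Q 0 = 0 := by
    have := hQ 0 0
    rw [add_zero, map_zero, add_zero, zmod_two_self] at this
    exact this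
  have hsq : S * S = (4 : ℤ) ^ d := by
    rw [hS, Finset.sum_mul_sum]
    have h1 : ∀ x : V, (∑ y, sgn (Q x) * sgn (Q y)) = ∑ h, sgn (Q h) * sgn (A.B x h) := by
      intro x
      refine (Fintype.sum_equiv (Equiv.addLeft x) _ _ (fun h => ?_)).symm
      simp only [Equiv.coe_addLeft]
      rw [← sgn_add, ← sgn_add, hQ]
      congr 1
      calc Q h + A.B x h = Q h + A.B x h + (Q x + Q x) := by rw [zmod_two_self, add_zero]
        _ = Q x + (Q x + Q h + A.B x h) := by abel
    rw [Finset.sum_congr rfl (fun x _ => h1 x), Finset.sum_comm]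
    have h2 : ∀ h : V, (∑ x, sgn (Q h) * sgn (A.B x h)) = if h = 0 then (Fintype.card V : ℤ) else 0 := by
      intro h
      rw [← Finset.mul_sum]
      have hu := sum_sgn (A.B.flip h)
      simp only [AddMonoidHom.flip_apply] at hu
      rw [hu]
      by_cases hm : h = 0
      · subst hm
        rw [if_pos rfl, if_pos (by rw [map_zero]), hQ0]
        simp [sgn]
      · rw [if_neg hm, if_neg fun k => hm (A.nondeg' _ fun w => DFunLike.congr_fun k w), mul_zero]
    rw [Finset.sum_congr rfl (fun h _ => h2 h), Finset.sum_ite_eq', if_pos (Finset.mem_univ _),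
      ← Nat.card_eq_fintype_card, hV]
    push_cast
    rfl
  have hSle : -(2 : ℤ) ^ d ≤ S := by
    have h4 : (4 : ℤ) ^ d = 2 ^ d * 2 ^ d := by rw [← mul_pow]; norm_num
    have hpos : (0 : ℤ) < 2 ^ d := by positivity
    by_contra hlt
    nlinarith
  have hcount : S = 2 * (Nat.card {x // Q x = 0} : ℤ) - Fintype.card V := by
    rw [hS, Nat.card_eq_fintype_card, Fintype.card_subtype]
    have : ∀ x, sgn (Q x) = 2 * (if Q x = 0 then 1 else 0) - 1 := fun x => by
      rcases zmod_two_cases (Q x) with h | h <;> simp [sgn, h]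
    rw [Finset.sum_congr rfl (fun x _ => this x), Finset.sum_sub_distrib, ← Finset.mul_sum,
      Finset.sum_boole]
    simp
  rw [← Nat.card_eq_fintype_card, hV] at hcount
  push_cast at hcount
  zify
  linarith

/-- The restriction of the pairing to the orthogonal of a hyperbolic pair. -/
def restrict [Finite V] {p q : V} (h : A.B p q = 1) :
    Alt (A.perp ({p, q} : Set V)) where
  B := AddMonoidHom.mk' (fun x => (A.B x).comp (A.perp ({p, q} : Set V)).subtype) fun x y => by
    ext z; simp
  two x := Subtype.ext (A.two x)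
  self x := A.self x
  nondeg x hx := by
    apply Subtype.ext
    refine A.nondeg _ fun w => ?_
    set w' := w + (if A.B w q = 1 then p else 0) + (if A.B w p = 1 then q else 0) with hw'
    have hxp : A.B x p = 0 := x.2 p (by simp)
    have hxq : A.B x q = 0 := x.2 q (by simp)
    have hqp : A.B q p = 1 := by rw [A.symm]; exact h
    have hmem : w' ∈ A.perp ({p, q} : Set V) := by
      intro s hs
      rcases hs with hs | hs <;> rw [hs] <;>
      · rcases zmod_two_cases (A.B w p) with a | a <;> rcases zmod_two_cases (A.B w q) with b | b <;>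
          simp [hw', a, b, A.self, h, hqp, zmod_two_self]
    have h0 : A.B (x : V) w' = 0 := hx ⟨w', hmem⟩
    rw [hw', map_add, map_add] at h0
    split_ifs at h0 <;> simpa [hxp, hxq] using h0

theorem restrict_apply [Finite V] {p q : V} (h : A.B p q = 1) (x y : A.perp ({p, q} : Set V)) :
    (A.restrict h).B x y = A.B x y := rfl

theorem restrict_tau [Finite V] {p q : V} (h : A.B p q = 1) (u x : A.perp ({p, q} : Set V)) :
    ((A.restrict h).tau u x : V) = A.tau u x := by
  rcases zmod_two_cases (A.B (x : V) u) with k | k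
  · rw [A.tau_of_zero k, (A.restrict h).tau_of_zero (by rw [A.restrict_apply]; exact k)]
  · rw [A.tau_of_one k, (A.restrict h).tau_of_one (by rw [A.restrict_apply]; exact k)]
    rfl

theorem card_perp_pair [Finite V] {p q : V} (h : A.B p q = 1) :
    Nat.card (A.perp ({p, q} : Set V)) * 4 = Nat.card V := by
  classical
  have hqp : A.B q p = 1 := by rw [A.symm]; exact h
  have hrefl : ∀ v : V, v + v = 0 := A.two
  let U : AddSubgroup V :=
    { carrier := {0, p, q, p + q}
      zero_mem' := by simp
      add_mem' := by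
        intro a b ha hb
        simp only [Set.mem_insert_iff, Set.mem_singleton_iff] at ha hb ⊢
        rcases ha with rfl | rfl | rfl | rfl <;> rcases hb with rfl | rfl | rfl | rfl <;>
          simp [add_assoc, add_left_comm, add_comm, hrefl, A.add_cancel]
      neg_mem' := by
        intro a ha
        rw [A.neg_eq]
        exact ha }
  have hperp : A.perp (U : Set V) = A.perp ({p, q} : Set V) := by
    ext x
    constructor
    · intro hx s hs
      refine hx s ?_
      rcases hs with hs | hs <;> rw [hs] <;> simp [U]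
    · intro hx s hs
      have hxp : A.B x p = 0 := hx p (by simp)
      have hxq : A.B x q = 0 := hx q (by simp)
      simp only [U, AddSubgroup.coe_set_mk, Set.mem_insert_iff, Set.mem_singleton_iff] at hs
      rcases hs with rfl | rfl | rfl | rfl <;> simp [hxp, hxq]
  have hp : p ≠ 0 := fun k => by simp [k] at h
  have hq : q ≠ 0 := fun k => by simp [k] at h
  have hpq : p ≠ q := fun k => by rw [k, A.self] at h; exact zero_ne_one h
  have hU : Nat.card U = 4 := by
    rw [← SetLike.coe_sort_coe, Nat.card_coe_set_eq]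
    show ({0, p, q, p + q} : Set V).ncard = 4
    have h1 : p + q ≠ 0 := A.add_ne_zero hpq
    have h2 : p + q ≠ p := fun k => hq (by simpa using k)
    have h3 : p + q ≠ q := fun k => hp (by simpa using k)
    rw [Set.ncard_insert_of_notMem (by simp [hp.symm, hq.symm, h1.symm]),
      Set.ncard_insert_of_notMem (by simp [hpq, h2.symm]),
      Set.ncard_insert_of_notMem (by simp [h3.symm]), Set.ncard_singleton]
  rw [← hperp, ← hU]
  exact A.card_perp U

/-- Two vectors orthogonal to two given vectors and not to each other. -/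
theorem exists_pair_perp [Finite V] (hV : 64 ≤ Nat.card V) (u v : V) :
    ∃ a b, A.B a u = 0 ∧ A.B a v = 0 ∧ A.B b u = 0 ∧ A.B b v = 0 ∧ A.B a b = 1 := by
  classical
  let S : AddSubgroup V :=
    { carrier := {0, u, v, u + v}
      zero_mem' := by simp
      add_mem' := by
        intro a b ha hb
        simp only [Set.mem_insert_iff, Set.mem_singleton_iff] at ha hb ⊢
        rcases ha with rfl | rfl | rfl | rfl <;> rcases hb with rfl | rfl | rfl | rfl <;>
          simp [add_assoc, add_left_comm, add_comm, A.two, A.add_cancel]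
      neg_mem' := by
        intro a ha
        rw [A.neg_eq]
        exact ha }
  have hS : Nat.card S ≤ 4 := by
    rw [← SetLike.coe_sort_coe, Nat.card_coe_set_eq]
    show ({0, u, v, u + v} : Set V).ncard ≤ 4
    have h1 := Set.ncard_insert_le (0 : V) ({u, v, u + v} : Set V)
    have h2 := Set.ncard_insert_le u ({v, u + v} : Set V)
    have h3 := Set.ncard_insert_le v ({u + v} : Set V)
    rw [Set.ncard_singleton] at h3
    omega
  have hc := A.card_perp S
  obtain ⟨a, ha, haS⟩ : ∃ a ∈ A.perp (S : Set V), a ∉ S := by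
    by_contra hcon
    push Not at hcon
    have := AddSubgroup.card_le_of_le (H := A.perp (S : Set V)) (K := S) fun x hx => hcon x hx
    have := Nat.mul_le_mul (this.trans hS) hS
    omega
  obtain ⟨b, hb, hab⟩ : ∃ b ∈ A.perp (S : Set V), A.B a b = 1 := by
    by_contra hcon
    push Not at hcon
    refine haS ?_
    rw [← A.perp_perp S]
    exact fun y hy => (ne_one_iff _).1 (hcon y hy)
  exact ⟨a, b, ha u (by simp [S]), ha v (by simp [S]), hb u (by simp [S]), hb v (by simp [S]), hab⟩

end Alt

end CfsgLib.SpTwoIndex
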