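import Mathlib
import Cfsg.Agent.Lib.SpTwoIndex.Form

/-!
A small action of a group generated by transvections of a symplectic space over the field with two
elements is trivial on every transvection.
-/

set_option autoImplicit false

namespace CfsgLib.SpTwoIndex

variable {V : Type*} [AddCommGroup V]

/-- The stage inside the centralizer of one transvection. -/
structure Rad {W : Type*} [AddCommGroup W] (A : Alt W) (G : Type*) [Group G] where
  z : G
  E : W → G
  s : W → G
  zz : z * z = 1
  ss : ∀ u, s u * s u = 1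
  mulE : ∀ v w, E v * E w = E (v + w) * (if A.B v w = 1 then z else 1)
  zE : ∀ v, z * E v = E v * z
  zs : ∀ u, z * s u = s u * z
  sE : ∀ u v, E v * s u = s u * E (A.tau u v)

namespace Rad

variable {W : Type*} [AddCommGroup W] {A : Alt W} {G : Type*} [Group G] (R : Rad A G)
  {Ω : Type*} [MulAction G Ω]

theorem E_zero : R.E 0 = 1 := by
  have h := R.mulE 0 0
  rw [if_neg (by rw [A.self]; decide), add_zero, mul_one] at h
  exact mul_eq_left.1 h

theorem E_comm (v w : W) : R.E v * R.E w = R.E w * R.E v := by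
  rw [R.mulE, R.mulE, add_comm v w, A.symm v w]

theorem z_inv (x : Ω) : R.z • R.z • x = x := by rw [← mul_smul, R.zz, one_smul]

/-- The vectors acting on a point like a power of the central involution. -/
def stab (x : Ω) : AddSubgroup W where
  carrier := {v | R.E v • x = x ∨ R.E v • x = R.z • x}
  zero_mem' := Or.inl (by rw [R.E_zero, one_smul])
  neg_mem' := fun {a} ha => by rw [A.neg_eq]; exact ha
  add_mem' := by
    intro v w hv hw
    have hzE : ∀ u : W, R.E u • R.z • x = R.z • R.E u • x := fun u => by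
      rw [← mul_smul, ← mul_smul, R.zE]
    have h1 : R.E v • R.E w • x = x ∨ R.E v • R.E w • x = R.z • x := by
      rcases hw with hw | hw <;> rw [hw]
      · exact hv
      · rw [hzE]
        rcases hv with hv | hv <;> rw [hv]
        · exact Or.inr rfl
        · exact Or.inl (R.z_inv x)
    rw [← mul_smul, R.mulE, mul_smul] at h1
    by_cases h : A.B v w = 1
    · rw [if_pos h, hzE] at h1
      rcases h1 with h1 | h1
      · right
        show R.E (v + w) • x = R.z • x
        calc R.E (v + w) • x = R.z • R.z • R.E (v + w) • x := (R.z_inv _).symm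
          _ = R.z • x := by rw [h1]
      · left
        exact smul_left_cancel R.z h1
    · rwa [if_neg h, one_smul] at h1

theorem mem_stab {x : Ω} {v : W} : v ∈ R.stab x ↔ R.E v • x = x ∨ R.E v • x = R.z • x := Iff.rfl

theorem stab_s (u : W) (x : Ω) (v : W) : v ∈ R.stab (R.s u • x) ↔ A.tau u v ∈ R.stab x := by
  rw [R.mem_stab, R.mem_stab]
  simp only [← mul_smul, R.zs, R.sE]
  simp only [mul_smul, smul_left_cancel_iff]

theorem stab_E (a : W) (x : Ω) : R.stab (R.E a • x) = R.stab x := by
  ext v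
  rw [R.mem_stab, R.mem_stab]
  simp only [← mul_smul, R.zE, R.E_comm v a]
  simp only [mul_smul, smul_left_cancel_iff]

theorem stab_z (x : Ω) : R.stab (R.z • x) = R.stab x := by
  ext v
  rw [R.mem_stab, R.mem_stab]
  simp only [← mul_smul, ← R.zE]
  simp only [mul_smul, smul_left_cancel_iff]

theorem z_moved_iff_s (u : W) (x : Ω) : R.z • R.s u • x = R.s u • x ↔ R.z • x = x := by
  rw [← mul_smul, R.zs, mul_smul, smul_left_cancel_iff]

theorem z_moved_iff_E (u : W) (x : Ω) : R.z • R.E u • x = R.E u • x ↔ R.z • x = x := by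
  rw [← mul_smul, R.zE, mul_smul, smul_left_cancel_iff]

theorem card_stab_s [Finite W] (u : W) (x : Ω) :
    Nat.card (R.stab (R.s u • x)) = Nat.card (R.stab x) :=
  Nat.card_congr
    { toFun := fun v => ⟨A.tau u v, (R.stab_s u x v).1 v.2⟩
      invFun := fun v => ⟨A.tau u v, (R.stab_s u x _).2 (by rw [A.tau_tau]; exact v.2)⟩
      left_inv := fun v => Subtype.ext (A.tau_tau u v)
      right_inv := fun v => Subtype.ext (A.tau_tau u v) }

/-- The union count: a family of points closed under the transvections, whose stabilisers are proper. -/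
theorem count [Finite W] [Finite Ω] {d c : ℕ} (hW : Nat.card W = 4 ^ d) (O : Set Ω) (U₀ : AddSubgroup W)
    (hU₀ : U₀ ≠ ⊤) (x₀ : Ω) (hx₀ : x₀ ∈ O) (hxU : R.stab x₀ = U₀)
    (hcl : ∀ u, ∀ x ∈ O, R.s u • x ∈ O)
    (hcard : ∀ x ∈ O, Nat.card (R.stab x) = Nat.card U₀)
    (hfib : ∀ x ∈ O, c * Nat.card W ≤
      Nat.card U₀ * {y | y ∈ O ∧ R.stab y = R.stab x}.ncard) :
    c * 4 ^ d ≤ O.ncard := by
  classical
  haveI := Fintype.ofFinite W
  haveI := Fintype.ofFinite Ω
  set P := Nat.card (A.perp (U₀ : Set W)) with hP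
  have hPU : P * Nat.card U₀ = Nat.card W := A.card_perp U₀
  have hUpos : 0 < Nat.card U₀ := Nat.card_pos
  have hP2 : 2 ≤ P := by
    by_contra hlt
    apply hU₀
    refine AddSubgroup.eq_top_of_card_eq U₀ ?_
    have hPpos : 0 < P := Nat.card_pos
    rw [← hPU, show P = 1 by omega, one_mul]
  set Of := O.toFinset with hOf
  set fam := Of.image R.stab with hfam
  have hperp : ∀ U ∈ fam, ((A.perp (U : Set W) : Set W).toFinset.erase 0).card = P - 1 := by
    intro U hU
    obtain ⟨x, hx, rfl⟩ := Finset.mem_image.1 hU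
    rw [hOf, Set.mem_toFinset] at hx
    have h1 : Nat.card (A.perp (R.stab x : Set W)) = P := by
      have h := A.card_perp (R.stab x)
      rw [hcard x hx, ← hPU] at h
      exact Nat.eq_of_mul_eq_mul_right hUpos h
    rw [Finset.card_erase_of_mem (by simp), Set.toFinset_card, ← Nat.card_eq_fintype_card]
    exact congrArg (· - 1) h1
  set S : Set W := {y | ∃ x ∈ O, y ∈ A.perp (R.stab x : Set W)} with hS
  have hScl : ∀ u, ∀ y ∈ S, A.tau u y ∈ S := by
    rintro u y ⟨x, hx, hy⟩
    refine ⟨R.s u • x, hcl u x hx, fun v hv => ?_⟩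
    have h := hy _ ((R.stab_s u x v).1 hv)
    rwa [← A.tau_B u, A.tau_tau] at h
  obtain ⟨y₀, hy₀, hy₀0⟩ : ∃ y ∈ A.perp (U₀ : Set W), y ≠ 0 := by
    by_contra hc
    push Not at hc
    have hb : A.perp (U₀ : Set W) = ⊥ := (AddSubgroup.eq_bot_iff_forall _).2 hc
    rw [hb, AddSubgroup.card_bot] at hP
    omega
  have hy₀S : y₀ ∈ S := ⟨x₀, hx₀, by rw [hxU]; exact hy₀⟩
  have hcover : (Finset.univ.erase (0 : W)) ⊆
      fam.biUnion fun U => (A.perp (U : Set W) : Set W).toFinset.erase 0 := by
    intro y hy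
    have hy0 : y ≠ 0 := Finset.ne_of_mem_erase hy
    obtain ⟨x, hx, hxy⟩ := A.tau_transitive hScl hy₀S hy₀0 hy0
    exact Finset.mem_biUnion.2 ⟨_, Finset.mem_image.2 ⟨x, by simpa [hOf] using hx, rfl⟩,
      by simp [hy0, hxy]⟩
  have hk : 4 ^ d - 1 ≤ fam.card * (P - 1) := by
    have h := (Finset.card_le_card hcover).trans Finset.card_biUnion_le
    rw [Finset.card_erase_of_mem (Finset.mem_univ _), Finset.card_univ, ← Nat.card_eq_fintype_card,
      hW, Finset.sum_congr rfl hperp, Finset.sum_const, smul_eq_mul] at h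
    exact h
  have hpts : fam.card * (c * P) ≤ O.ncard := by
    rw [Set.ncard_eq_toFinset_card', ← hOf,
      Finset.card_eq_sum_card_fiberwise (f := R.stab) (t := fam) (fun x hx => Finset.mem_image_of_mem _ hx)]
    rw [← smul_eq_mul, ← Finset.sum_const]
    refine Finset.sum_le_sum fun U hU => ?_
    obtain ⟨x, hx, rfl⟩ := Finset.mem_image.1 hU
    rw [hOf, Set.mem_toFinset] at hx
    have h := hfib x hx
    rw [← hPU, ← mul_assoc, mul_comm (Nat.card U₀)] at h
    refine le_trans (Nat.le_of_mul_le_mul_right h hUpos) (le_of_eq ?_)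
    rw [Set.ncard_eq_toFinset_card']
    congr 1
    ext y
    simp [hOf]
  have hfam1 : 1 ≤ fam.card :=
    Finset.card_pos.2 ⟨R.stab x₀, Finset.mem_image.2 ⟨x₀, by simpa [hOf] using hx₀, rfl⟩⟩
  obtain ⟨P', hP'⟩ : ∃ P', P = P' + 1 := ⟨P - 1, by omega⟩
  have h4 : 4 ^ d ≤ fam.card * P := by
    rw [hP', Nat.mul_succ]
    rw [hP', Nat.add_sub_cancel] at hk
    omega
  calc c * 4 ^ d ≤ c * (fam.card * P) := Nat.mul_le_mul_left c h4
    _ = fam.card * (c * P) := by ring
    _ ≤ O.ncard := hpts

/-- A moved point is only moved by the central involution inside the radical. -/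
theorem stab_eq_top_of_moved [Finite W] [Finite Ω] {d : ℕ} (hW : Nat.card W = 4 ^ d)
    (hN : Nat.card Ω < 2 * 4 ^ d) {x₀ : Ω} (hx₀ : R.z • x₀ ≠ x₀) : R.stab x₀ = ⊤ := by
  classical
  haveI := Fintype.ofFinite W
  by_contra hne
  set O : Set Ω := {x | R.z • x ≠ x ∧ Nat.card (R.stab x) = Nat.card (R.stab x₀)} with hO
  have h := R.count (c := 2) hW O (R.stab x₀) hne x₀ ⟨hx₀, rfl⟩ rfl
    (fun u x hx => ⟨fun k => hx.1 ((R.z_moved_iff_s u x).1 k), by rw [R.card_stab_s]; exact hx.2⟩)
    (fun x hx => hx.2) ?_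
  · have := Set.ncard_le_card O
    omega
  intro x hx
  let f : W × Bool → Ω := fun a => if a.2 then R.z • R.E a.1 • x else R.E a.1 • x
  have hmem : ∀ a, f a ∈ {y | y ∈ O ∧ R.stab y = R.stab x} := by
    rintro ⟨a, b⟩
    have h1 : R.stab (R.E a • x) = R.stab x := R.stab_E a x
    have hm : R.z • R.E a • x ≠ R.E a • x := fun k => hx.1 ((R.z_moved_iff_E a x).1 k)
    rcases b with _ | _
    · refine ⟨⟨hm, ?_⟩, h1⟩
      show Nat.card (R.stab (R.E a • x)) = _
      rw [h1]; exact hx.2
    · refine ⟨⟨fun k => hm (smul_left_cancel R.z k), ?_⟩, by show R.stab (R.z • _) = _; rw [R.stab_z, h1]⟩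
      show Nat.card (R.stab (R.z • _)) = _
      rw [R.stab_z, h1]; exact hx.2
  have hcard := Finset.card_le_mul_card_image (s := (Finset.univ : Finset (W × Bool))) (f := f)
    (n := Nat.card (R.stab x₀)) (fun y hy => ?_)
  · rw [Finset.card_univ, Fintype.card_prod, Fintype.card_bool, ← Nat.card_eq_fintype_card, mul_comm] at hcard
    refine hcard.trans (Nat.mul_le_mul_left _ ?_)
    rw [← Set.ncard_coe_finset]
    refine Set.ncard_le_ncard (fun y hy => ?_) (Set.toFinite _)
    obtain ⟨a, -, rfl⟩ := Finset.mem_image.1 hy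
    exact hmem a
  · obtain ⟨⟨a₀, b₀⟩, -, rfl⟩ := Finset.mem_image.1 hy
    rw [← hx.2, Nat.card_eq_fintype_card, Fintype.card_subtype]
    refine Finset.card_le_card_of_injOn (fun a => a.1 + a₀) (fun a ha => ?_) ?_
    · have ha' : f a = f (a₀, b₀) := (Finset.mem_filter.1 ha).2
      have hzE : ∀ w : W, R.E w • R.z • x = R.z • R.E w • x := fun w => by
        rw [← mul_smul, ← mul_smul, R.zE]
      have key : ∀ w, R.E a.1 • x = R.E w • x ∨ R.E a.1 • x = R.z • R.E w • x → a.1 + w ∈ R.stab x := by
        intro w hw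
        have e1 : R.E w • R.E a.1 • x = R.E (a.1 + w) • (if A.B w a.1 = 1 then R.z else 1) • x := by
          rw [← mul_smul, R.mulE, mul_smul, add_comm w]
        have e2 : R.E w • R.E w • x = x := by
          rw [← mul_smul, R.mulE, A.two, R.E_zero, if_neg (by rw [A.self]; decide), one_mul, one_smul]
        have e3 : R.E w • R.E a.1 • x = x ∨ R.E w • R.E a.1 • x = R.z • x := by
          rcases hw with hw | hw <;> rw [hw]
          · exact Or.inl e2
          · refine Or.inr ?_
            rw [← mul_smul, ← R.zE, mul_smul, e2]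
        rw [e1] at e3
        by_cases h : A.B w a.1 = 1
        · rw [if_pos h, hzE] at e3
          rcases e3 with e3 | e3
          · refine Or.inr ?_
            show R.E (a.1 + w) • x = R.z • x
            calc R.E (a.1 + w) • x = R.z • R.z • R.E (a.1 + w) • x := (R.z_inv _).symm
              _ = R.z • x := by rw [e3]
          · exact Or.inl (smul_left_cancel R.z e3)
        · rwa [if_neg h, one_smul] at e3
      have hmem2 : a.1 + a₀ ∈ R.stab x := by
        refine key a₀ ?_
        obtain ⟨a1, b⟩ := a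
        rcases b with _ | _ <;> rcases b₀ with _ | _ <;> simp [f] at ha' ⊢
        · exact Or.inl ha'
        · exact Or.inr ha'
        · refine Or.inr ?_
          rw [← ha', R.z_inv]
        · exact Or.inl ha'
      simpa using hmem2
    · rintro ⟨a, b⟩ ha ⟨a', b'⟩ ha' hab
      have he : a = a' := add_right_cancel hab
      subst he
      have h1 : f (a, b) = f (a, b') :=
        (Finset.mem_filter.1 ha).2.trans (Finset.mem_filter.1 ha').2.symm
      have hm : R.z • R.E a • x ≠ R.E a • x := fun k => hx.1 ((R.z_moved_iff_E a x).1 k)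
      rcases b with _ | _ <;> rcases b' with _ | _ <;> simp [f] at h1 ⊢
      · exact hm h1.symm
      · exact hm h1

/-- A point fixed by the central involution is fixed by the radical. -/
theorem stab_eq_top_of_fixed [Finite W] [Finite Ω] {d : ℕ} (hW : Nat.card W = 4 ^ d)
    (hN : Nat.card Ω + 2 ^ d < 2 * 4 ^ d) {x₁ : Ω} (hx₁ : R.z • x₁ ≠ x₁) {x₀ : Ω}
    (hx₀ : R.z • x₀ = x₀) : R.stab x₀ = ⊤ := by
  classical
  haveI := Fintype.ofFinite W
  haveI := Fintype.ofFinite Ω
  by_contra hne
  have hpos : 0 < 2 ^ d := Nat.two_pow_pos d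
  -- the fixed points
  set O : Set Ω := {x | R.z • x = x ∧ Nat.card (R.stab x) = Nat.card (R.stab x₀)} with hO
  have hfix := R.count (c := 1) hW O (R.stab x₀) hne x₀ ⟨hx₀, rfl⟩ rfl
    (fun u x hx => ⟨(R.z_moved_iff_s u x).2 hx.1, by rw [R.card_stab_s]; exact hx.2⟩)
    (fun x hx => hx.2) ?_
  swap
  · intro x hx
    have hmem : ∀ a, R.E a • x ∈ {y | y ∈ O ∧ R.stab y = R.stab x} := by
      intro a
      have h1 : R.stab (R.E a • x) = R.stab x := R.stab_E a x
      refine ⟨⟨(R.z_moved_iff_E a x).2 hx.1, ?_⟩, h1⟩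
      show Nat.card (R.stab (R.E a • x)) = _
      rw [h1]; exact hx.2
    have hcard := Finset.card_le_mul_card_image (s := (Finset.univ : Finset W)) (f := fun a => R.E a • x)
      (n := Nat.card (R.stab x₀)) (fun y hy => ?_)
    · rw [Finset.card_univ, ← Nat.card_eq_fintype_card] at hcard
      rw [one_mul]
      refine hcard.trans (Nat.mul_le_mul_left _ ?_)
      rw [← Set.ncard_coe_finset]
      refine Set.ncard_le_ncard (fun y hy => ?_) (Set.toFinite _)
      obtain ⟨a, -, rfl⟩ := Finset.mem_image.1 hy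
      exact hmem a
    · obtain ⟨a₀, -, rfl⟩ := Finset.mem_image.1 hy
      rw [← hx.2, Nat.card_eq_fintype_card, Fintype.card_subtype]
      refine Finset.card_le_card_of_injOn (fun a => a + a₀) (fun a ha => ?_)
        (fun a _ b _ hab => add_right_cancel hab)
      have ha' : R.E a • x = R.E a₀ • x := (Finset.mem_filter.1 ha).2
      have e1 : R.E a₀ • R.E a₀ • x = x := by
        rw [← mul_smul, R.mulE, A.two, R.E_zero, if_neg (by rw [A.self]; decide), one_mul, one_smul]
      rw [← ha', ← mul_smul, R.mulE, mul_smul, add_comm a₀] at e1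
      have hd : (if A.B a₀ a = 1 then R.z else 1) • x = x := by
        by_cases h : A.B a₀ a = 1
        · rw [if_pos h, hx.1]
        · rw [if_neg h, one_smul]
      rw [hd] at e1
      have : a + a₀ ∈ R.stab x := Or.inl e1
      simpa using this
  rw [one_mul] at hfix
  -- the moved points
  set M : Set Ω := {x | R.z • x ≠ x} with hM
  have hdich : ∀ x ∈ M, ∀ v, R.E v • x = x ∨ R.E v • x = R.z • x := fun x hx v => by
    have h := R.stab_eq_top_of_moved hW (by omega) (x₀ := x) hx
    exact (R.mem_stab).1 (h ▸ AddSubgroup.mem_top v)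
  let q : Ω → W → ZMod 2 := fun x v => if R.E v • x = R.z • x then 1 else 0
  have hq : ∀ v w, q x₁ (v + w) = q x₁ v + q x₁ w + A.B v w := by
    intro v w
    have hzE : ∀ u : W, R.E u • R.z • x₁ = R.z • R.E u • x₁ := fun u => by
      rw [← mul_smul, ← mul_smul, R.zE]
    have hne' : x₁ ≠ R.z • x₁ := fun k => hx₁ k.symm
    have e : R.E v • R.E w • x₁ = R.E (v + w) • (if A.B v w = 1 then R.z else 1) • x₁ := by
      rw [← mul_smul, R.mulE, mul_smul]
    have hz2 := R.z_inv x₁
    rcases hdich x₁ hx₁ v with hv | hv <;> rcases hdich x₁ hx₁ w with hw | hw <;>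
      rcases hdich x₁ hx₁ (v + w) with hvw | hvw <;>
      rcases zmod_two_cases (A.B v w) with hB | hB <;>
      simp [hB, hzE, hv, hw, hvw, hz2, hne', hx₁] at e <;>
      simp [q, hB, hv, hw, hvw, hne', hx₁, zmod_two_self]
  have hq_s : ∀ u v, q x₁ u = 0 → q (R.s u • x₁) v = q x₁ v + A.B v u := by
    intro u v hu
    have h1 : q (R.s u • x₁) v = q x₁ (A.tau u v) := by
      simp only [q, ← mul_smul, R.sE, R.zs]
      simp only [mul_smul, smul_left_cancel_iff]
    rw [h1]
    rcases zmod_two_cases (A.B v u) with h | h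
    · rw [A.tau_of_zero h, h, add_zero]
    · rw [A.tau_of_one h, hq, hu, add_zero]
  set Z : Finset W := {u | q x₁ u = 0} with hZ
  set Mf := M.toFinset with hMf
  set fam := Mf.image q with hfam
  have hinj : Z.card ≤ fam.card := by
    refine Finset.card_le_card_of_injOn (fun u => q (R.s u • x₁)) (fun u _ => ?_) ?_
    · refine Finset.mem_image.2 ⟨_, ?_, rfl⟩
      rw [hMf, Set.mem_toFinset]
      exact fun k => hx₁ ((R.z_moved_iff_s u x₁).1 k)
    · intro u hu u' hu' he
      have hu0 : q x₁ u = 0 := by simpa [hZ] using hu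
      have hu0' : q x₁ u' = 0 := by simpa [hZ] using hu'
      refine A.eq_of_add_eq_zero (A.nondeg' _ fun v => ?_)
      have := congrFun he v
      simp only [hq_s u v hu0, hq_s u' v hu0', add_right_inj] at this
      rw [map_add, this, zmod_two_self]
  have hM2 : 2 * fam.card ≤ M.ncard := by
    rw [Set.ncard_eq_toFinset_card', ← hMf,
      Finset.card_eq_sum_card_fiberwise (f := q) (t := fam) (fun x hx => Finset.mem_image_of_mem _ hx),
      mul_comm, ← smul_eq_mul, ← Finset.sum_const]
    refine Finset.sum_le_sum fun Q hQ => ?_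
    obtain ⟨x, hx, rfl⟩ := Finset.mem_image.1 hQ
    rw [hMf, Set.mem_toFinset] at hx
    refine Nat.succ_le_of_lt (Finset.one_lt_card.2 ⟨x, ?_, R.z • x, ?_, fun k => hx k.symm⟩)
    · simpa [hMf] using hx
    · have hx' : R.z • R.z • x ≠ R.z • x := fun k => hx (smul_left_cancel R.z k)
      refine Finset.mem_filter.2 ⟨Set.mem_toFinset.2 hx', ?_⟩
      funext v
      simp only [q, ← mul_smul, ← R.zE]
      simp only [mul_smul, smul_left_cancel_iff]
  have hdisj : O.ncard + M.ncard ≤ Nat.card Ω := by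
    rw [← Set.ncard_union_eq (Set.disjoint_left.2 fun x (hx : x ∈ O) (hx' : x ∈ M) => hx' hx.1) (Set.toFinite _) (Set.toFinite _)]
    exact Set.ncard_le_card _
  have hzeros := A.card_zeros hW (q x₁) hq
  rw [Nat.card_eq_fintype_card, Fintype.card_subtype, ← hZ] at hzeros
  omega

theorem dich [Finite W] [Finite Ω] {d : ℕ} (hW : Nat.card W = 4 ^ d)
    (hN : Nat.card Ω + 2 ^ d < 2 * 4 ^ d) {x₁ : Ω} (hx₁ : R.z • x₁ ≠ x₁) (v : W) (x : Ω) :
    R.E v • x = x ∨ R.E v • x = R.z • x := by
  have hpos : 0 < 2 ^ d := Nat.two_pow_pos d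
  have h : R.stab x = ⊤ := by
    by_cases hx : R.z • x = x
    · exact R.stab_eq_top_of_fixed hW hN hx₁ hx
    · exact R.stab_eq_top_of_moved hW (by omega) hx
  exact (R.mem_stab).1 (h ▸ AddSubgroup.mem_top v)

end Rad

/-- Transvections in a group. -/
structure Trans (A : Alt V) (G : Type*) [Group G] where
  t : V → G
  t_zero : t 0 = 1
  tt : ∀ u, t u * t u = 1
  conj : ∀ u v, t u * t v * t u = t (A.tau u v)
  rel : ∀ p v w, A.B v p = 0 → A.B w p = 0 →
    (t p * t v * t (p + v)) * (t p * t w * t (p + w))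
      = (t p * t (v + w) * t (p + (v + w))) * (if A.B v w = 1 then t p else 1)

namespace Trans

variable {A : Alt V} {G : Type*} [Group G] (T : Trans A G) {Ω : Type*} [MulAction G Ω]

theorem inv_t (u : V) : (T.t u)⁻¹ = T.t u := inv_eq_of_mul_eq_one_right (T.tt u)

theorem t_t (u : V) (x : Ω) : T.t u • T.t u • x = x := by rw [← mul_smul, T.tt, one_smul]

theorem comm {u v : V} (h : A.B v u = 0) : T.t u * T.t v = T.t v * T.t u := by
  have := T.conj u v
  rw [A.tau_of_zero h] at this
  rw [← eq_mul_inv_iff_mul_eq, T.inv_t] at this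
  exact this

theorem conj' (u v : V) : T.t v * T.t u = T.t u * T.t (A.tau u v) := by
  rw [← T.conj u v, ← mul_assoc, ← mul_assoc, T.tt, one_mul]

/-- The product of the three transvections of a line. -/
def e (p v : V) : G := T.t p * T.t v * T.t (p + v)

theorem e_symm {p v : V} (h : A.B v p = 0) : T.e p v = T.e v p := by
  rw [e, e, T.comm h, add_comm]

theorem e_add {p v : V} (h : A.B v p = 0) : T.e p (p + v) = T.e p v := by
  have h2 : A.B v (p + v) = 0 := by rw [map_add, h, A.self, add_zero]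
  rw [e, e, A.add_cancel, mul_assoc, mul_assoc, T.comm h2]

theorem e_comm {p v : V} (h : A.B v p = 0) : T.t p * T.e p v = T.e p v * T.t p := by
  have h2 : A.B (p + v) p = 0 := by rw [map_add, AddMonoidHom.add_apply, h, A.self, add_zero]
  rw [e, mul_assoc (T.t p * T.t v), ← T.comm h2, ← mul_assoc, ← mul_assoc, ← mul_assoc,
    mul_assoc (T.t p) (T.t v) (T.t p), ← T.comm h]
  simp only [mul_assoc]

theorem e_conj (u p v : V) : T.e p v * T.t u = T.t u * T.e (A.tau u p) (A.tau u v) := by
  rw [e, e, ← A.tau_add, mul_assoc, T.conj' u, ← mul_assoc, mul_assoc (T.t p), T.conj' u,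
    ← mul_assoc (T.t p), T.conj' u]
  simp only [mul_assoc]

/-- The radical of the centralizer of a transvection. -/
def rad [Finite V] {p q : V} (h : A.B p q = 1) : Rad (A.restrict h) G where
  z := T.t p
  E v := T.e p v
  s u := T.t u
  zz := T.tt p
  ss u := T.tt u
  mulE v w := by
    have hv : A.B (v : V) p = 0 := v.2 p (by simp)
    have hw : A.B (w : V) p = 0 := w.2 p (by simp)
    rw [A.restrict_apply]
    exact T.rel p v w hv hw
  zE v := T.e_comm (v.2 p (by simp))
  zs u := T.comm (u.2 p (by simp))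
  sE u v := by
    have hu : A.B p (u : V) = 0 := by rw [A.symm]; exact u.2 p (by simp)
    rw [A.restrict_tau, T.e_conj, A.tau_of_zero hu]

/-- Every product of three transvections of a line is trivial or acts like one of them. -/
theorem dich [Finite V] [Finite Ω] {d : ℕ} (hV : Nat.card V = 4 ^ (d + 1))
    (hN : Nat.card Ω + 2 ^ d < 2 * 4 ^ d) (hmove : ∀ p, p ≠ 0 → ∃ x : Ω, T.t p • x ≠ x)
    (p v : V) (hpv : A.B v p = 0) (x : Ω) :
    T.e p v • x = x ∨ T.e p v • x = T.t p • x := by
  by_cases hp : p = 0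
  · subst hp
    left
    rw [e, T.t_zero, one_mul, zero_add, T.tt, one_smul]
  obtain ⟨q, hq⟩ := A.exists_one hp
  obtain ⟨x₁, hx₁⟩ := hmove p hp
  have hW : Nat.card (A.perp ({p, q} : Set V)) = 4 ^ d := by
    have := A.card_perp_pair hq
    rw [hV, pow_succ] at this
    omega
  have main : ∀ w, A.B w p = 0 → A.B w q = 0 → (T.e p w • x = x ∨ T.e p w • x = T.t p • x) := by
    intro w h1 h2
    refine (T.rad hq).dich hW hN (x₁ := x₁) hx₁ ⟨w, ?_⟩ x
    intro s hs
    rcases hs with hs | hs <;> rw [hs] <;> assumption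
  rcases zmod_two_cases (A.B v q) with h | h
  · exact main v hpv h
  · have := main (p + v) (by rw [map_add, AddMonoidHom.add_apply, A.self, hpv, add_zero])
      (by rw [map_add, AddMonoidHom.add_apply, hq, h, zmod_two_self])
    rwa [T.e_add hpv] at this

theorem fix_all [Finite V] [Finite Ω] {d : ℕ} (hd : 2 ≤ d) (hV : Nat.card V = 4 ^ (d + 1))
    (hN : Nat.card Ω + 2 ^ d < 2 * 4 ^ d) (v : V) (x : Ω) : T.t v • x = x := by
  classical
  by_cases hmove : ∀ p, p ≠ 0 → ∃ x : Ω, T.t p • x ≠ x
  swap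
  · push Not at hmove
    obtain ⟨p, hp, hfix⟩ := hmove
    by_cases hv : v = 0
    · rw [hv, T.t_zero, one_smul]
    have hS : v ∈ {w : V | ∀ y : Ω, T.t w • y = y} := by
      refine A.tau_transitive (S := {w : V | ∀ y : Ω, T.t w • y = y}) (fun u w hw y => ?_) hfix hp hv
      rw [← T.conj, mul_smul, mul_smul, hw, T.t_t]
    exact hS x
  by_contra hvx
  have dich' := T.dich hV hN hmove
  have h64 : 64 ≤ Nat.card V := by
    rw [hV]
    calc (64 : ℕ) = 4 ^ 3 := by norm_num
      _ ≤ 4 ^ (d + 1) := Nat.pow_le_pow_right (by norm_num) (by omega)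
  -- the line lemmas
  have line : ∀ (u c : V) (y : Ω), A.B u c = 0 → (T.e c u • y = y ∨ T.e c u • y = T.t c • y) ∧
      (T.e c u • y = y ∨ T.e c u • y = T.t u • y) ∧
      (T.e c u • y = y ∨ T.e c u • y = T.t (c + u) • y) := by
    intro u c y h
    have h' : A.B c u = 0 := by rw [A.symm]; exact h
    refine ⟨dich' c u h y, ?_, ?_⟩
    · rw [T.e_symm h]
      exact dich' u c h' y
    · have hcw : A.B c (c + u) = 0 := by rw [map_add, A.self, h', zero_add]
      have hwc : A.B (c + u) c = 0 := by rw [A.symm]; exact hcw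
      have := dich' (c + u) c hcw y
      rwa [← T.e_symm hwc, T.e_add h] at this
  have e_eq : ∀ (u c : V) (y : Ω), T.e c u • y = T.t c • T.t u • T.t (c + u) • y := fun u c y => by
    rw [e, mul_smul, mul_smul]
  have P1 : ∀ (u c : V) (y : Ω), A.B u c = 0 → T.t u • y = y → T.t (c + u) • y = T.t c • y := by
    intro u c y h hu
    have he : T.e c u • y = y := by
      rcases (line u c y h).2.1 with k | k
      · exact k
      · rw [k, hu]
    have hc : A.B c u = 0 := by rw [A.symm]; exact h
    have hw : A.B (c + u) u = 0 := by rw [map_add, AddMonoidHom.add_apply, hc, A.self, add_zero]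
    rw [e_eq, ← mul_smul (T.t u), T.comm hw, mul_smul, hu] at he
    calc T.t (c + u) • y = T.t c • T.t c • T.t (c + u) • y := (T.t_t _ _).symm
      _ = T.t c • y := by rw [he]
  have P2 : ∀ (u c : V) (y : Ω), A.B u c = 0 → T.t c • y ≠ y → T.e c u • y = T.t c • y →
      T.t u • y = T.t c • y ∧ T.t (c + u) • y = T.t c • y := by
    intro u c y h hc he
    constructor
    · rcases (line u c y h).2.1 with k | k
      · exact absurd (he ▸ k) hc
      · rw [← k, he]
    · rcases (line u c y h).2.2 with k | k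
      · exact absurd (he ▸ k) hc
      · rw [← k, he]
  have P3 : ∀ (u c : V) (y : Ω), A.B u c = 0 → T.e c u • y = y → T.t u • y = T.t c • y →
      T.t (c + u) • y = y := by
    intro u c y h he hu
    have hc : A.B c u = 0 := by rw [A.symm]; exact h
    have hw1 : A.B (c + u) u = 0 := by rw [map_add, AddMonoidHom.add_apply, hc, A.self, add_zero]
    have hw2 : A.B (c + u) c = 0 := by rw [map_add, AddMonoidHom.add_apply, h, A.self, add_zero]
    rw [e_eq, ← mul_smul (T.t u), T.comm hw1, mul_smul, hu, ← mul_smul (T.t c), T.comm hw2,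
      mul_smul, T.t_t] at he
    exact he
  set y := T.t v • x with hy
  have hyx : T.t v • y = x := T.t_t v x
  -- the set of transvections preserving the pair
  let Z : V → Prop := fun u => T.t u • x = y ∨ (T.t u • x = x ∧ T.t u • y = y)
  have hswap : ∀ u, T.t u • x = y → T.t u • y = x := fun u hu => by rw [← hu, T.t_t]
  have hZadd : ∀ c r, T.t c • x = y → Z r → Z (c + r) := by
    intro c r hc hr
    rcases zmod_two_cases (A.B r c) with h | h
    · rcases hr with hr | ⟨hr, -⟩
      · rcases (line r c x h).1 with he | he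
        · have hw := P3 r c x h he (by rw [hr, hc])
          refine Or.inr ⟨hw, ?_⟩
          have hcomm : A.B (c + r) c = 0 := by rw [map_add, AddMonoidHom.add_apply, h, A.self, add_zero]
          rw [← hc, ← mul_smul, ← T.comm hcomm, mul_smul, hw]
        · exact Or.inl ((P2 r c x h (by rw [hc]; exact hvx) he).2.trans hc)
      · exact Or.inl ((P1 r c x h hr).trans hc)
    · have e1 : T.t (c + r) = T.t c * T.t r * T.t c := by
        rw [T.conj, A.tau_of_one h, add_comm]
      rcases hr with hr | ⟨hr1, hr2⟩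
      · left
        rw [e1, mul_smul, mul_smul, hc, hswap r hr, hc]
      · right
        constructor
        · rw [e1, mul_smul, mul_smul, hc, hr2, hswap c hc]
        · rw [e1, mul_smul, mul_smul, hswap c hc, hr1, hc]
  let Q : V → ZMod 2 := fun u => if T.e v u • x = y then 1 else 0
  have hne : x ≠ y := fun k => hvx k.symm
  have hQ : ∀ a b, A.B a v = 0 → A.B b v = 0 → Q (a + b) = Q a + Q b + A.B a b := by
    intro a b ha hb
    have hab : A.B (a + b) v = 0 := by rw [map_add, AddMonoidHom.add_apply, ha, hb, add_zero]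
    have hzE : ∀ u, A.B u v = 0 → T.e v u • y = T.t v • T.e v u • x := fun u hu => by
      rw [hy, ← mul_smul, ← mul_smul, T.e_comm hu]
    have e1 := congrArg (fun g : G => g • x) (T.rel v a b ha hb)
    change (T.e v a * T.e v b) • x = (T.e v (a + b) * _) • x at e1
    rw [mul_smul, mul_smul] at e1
    rcases dich' v a ha x with ka | ka <;> rcases dich' v b hb x with kb | kb <;>
      rcases dich' v (a + b) hab x with kab | kab <;>
      rcases zmod_two_cases (A.B a b) with hB | hB <;>
      simp [hB, ka, kb, kab, ← hy, hzE a ha, hzE (a + b) hab, hyx, hne, hne.symm] at e1 <;>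
      simp [Q, hB, ka, kb, kab, ← hy, hne, zmod_two_self]
  have hone : ∀ u, A.B u v = 0 → Q u = 1 → T.t u • x = y := by
    intro u hu hQu
    have he : T.e v u • x = y := by
      by_contra hc
      simp [Q, hc] at hQu
    exact (P2 u v x hu hvx he).1
  have hall : ∀ u, A.B u v = 0 → Z u := by
    intro u hu
    rcases zmod_two_cases (Q u) with h | h
    swap
    · exact Or.inl (hone u hu h)
    obtain ⟨a, b, hau, hav, hbu, hbv, hab⟩ := A.exists_pair_perp h64 u v
    obtain ⟨c, hcu, hcv, hc1⟩ : ∃ c, A.B c u = 0 ∧ A.B c v = 0 ∧ Q c = 1 := by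
      rcases zmod_two_cases (Q a) with ka | ka
      swap
      · exact ⟨a, hau, hav, ka⟩
      rcases zmod_two_cases (Q b) with kb | kb
      swap
      · exact ⟨b, hbu, hbv, kb⟩
      refine ⟨a + b, by rw [map_add, AddMonoidHom.add_apply, hau, hbu, add_zero],
        by rw [map_add, AddMonoidHom.add_apply, hav, hbv, add_zero], ?_⟩
      rw [hQ a b hav hbv, ka, kb, hab]
      decide
    have huc : A.B (c + u) v = 0 := by rw [map_add, AddMonoidHom.add_apply, hcv, hu, add_zero]
    have h1 : Q (c + u) = 1 := by rw [hQ c u hcv hu, hc1, h, hcu]; decide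
    have := hZadd c (c + u) (hone c hcv hc1) (Or.inl (hone _ huc h1))
    rwa [A.add_cancel] at this
  obtain ⟨a, b, hav, hbv, hab, hQa⟩ : ∃ a b, A.B a v = 0 ∧ A.B b v = 0 ∧ A.B a b = 1 ∧ Q a = 0 := by
    obtain ⟨a, b, hav, -, hbv, -, hab⟩ := A.exists_pair_perp h64 v v
    obtain ⟨c, c', hca, hcv, hc'a, hc'v, hcc⟩ := A.exists_pair_perp h64 a v
    rcases zmod_two_cases (Q a) with ka | ka
    · exact ⟨a, b, hav, hbv, hab, ka⟩
    rcases zmod_two_cases (Q c) with kc | kc
    · exact ⟨c, c', hcv, hc'v, hcc, kc⟩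
    refine ⟨a + c, c', by rw [map_add, AddMonoidHom.add_apply, hav, hcv, add_zero], hc'v, ?_, ?_⟩
    · rw [map_add, AddMonoidHom.add_apply, hcc, A.symm a c', hc'a, zero_add]
    · rw [hQ a c hav hcv, ka, kc, A.symm, hca]
      decide
  obtain ⟨b, hbv, hab, hQb⟩ : ∃ b', A.B b' v = 0 ∧ A.B a b' = 1 ∧ Q b' = 0 := by
    rcases zmod_two_cases (Q b) with kb | kb
    · exact ⟨b, hbv, hab, kb⟩
    refine ⟨a + b, by rw [map_add, AddMonoidHom.add_apply, hav, hbv, add_zero],
      by rw [map_add, A.self, hab, zero_add], ?_⟩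
    rw [hQ a b hav hbv, hQa, kb, hab]
    decide
  have hQv : Q v = 0 := by
    simp [Q, e, T.tt, A.two, T.t_zero, hne]
  have hvv : A.B v v = 0 := A.self v
  -- replace a zero by one that fixes the point
  have adjust : ∀ a, A.B a v = 0 → Q a = 0 → ∃ a', A.B a' v = 0 ∧ Q a' = 0 ∧ T.t a' • x = x ∧
      ∀ w, A.B w v = 0 → A.B a' w = A.B a w := by
    intro a ha hq0
    rcases hall a ha with h | h
    swap
    · exact ⟨a, ha, hq0, h.1, fun w _ => rfl⟩
    refine ⟨v + a, by rw [map_add, AddMonoidHom.add_apply, hvv, ha, add_zero], ?_, ?_, ?_⟩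
    · rw [hQ v a hvv ha, hQv, hq0, A.symm, ha]
      decide
    · refine P3 a v x ha ?_ h
      rcases dich' v a ha x with k | k
      · exact k
      · simp [Q, k, ← hy] at hq0
    · intro w hw
      rw [map_add, AddMonoidHom.add_apply, A.symm v w, hw, zero_add]
  obtain ⟨a', ha'v, hQa', ha'x, ha'B⟩ := adjust a hav hQa
  obtain ⟨b', hb'v, hQb', hb'x, hb'B⟩ := adjust b hbv hQb
  have hab' : A.B a' b' = 1 := by
    rw [A.symm, hb'B a' ha'v, A.symm, ha'B b hbv, hab]
  have h1 : Q (a' + b') = 1 := by rw [hQ a' b' ha'v hb'v, hQa', hQb', hab']; decide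
  have h2 : T.t (a' + b') • x = x := by
    rw [← A.tau_of_one (u := b') (x := a') hab', ← T.conj, mul_smul, mul_smul, hb'x, ha'x, hb'x]
  have h3 := hone (a' + b') (by rw [map_add, AddMonoidHom.add_apply, ha'v, hb'v, add_zero]) h1
  exact hne (h2.symm.trans h3)

end Trans

end CfsgLib.SpTwoIndex
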